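import Cfsg.Agent.H607.Car.E6Def

/-!
# `ReflZ`: stabilisers of integral homomorphisms of the root lattice of type `E₆` are generated by reflections (helper502)
-/

set_option autoImplicit false
set_option linter.unusedSectionVars false

namespace Cfsg.Agent.H502.E6

open CoxeterSystem Subgroup Cfsg Cfsg.Lie Cfsg.Lie.ChevalleyDatum
open Cfsg.Agent.ChevalleyStructure Cfsg.Agent.ChevalleyStructure.Elts Cfsg.Agent.ChevalleyStructure.CoxeterGeom
  Cfsg.Agent.ChevalleyStructure.CoxeterGeomTypes Cfsg.Agent.ChevalleyStructure.NPerm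
open Cfsg.Agent.Tits.Roots Cfsg.Agent.Tits.Core Cfsg.Agent.Nodes Cfsg.Agent.Nodes.Reps Cfsg.Agent.Nodes.BNOf
  Cfsg.Agent.Nodes.RGDChev Cfsg.Agent.Nodes.Bruhat
open Cfsg.Agent.KFacts.RgdField Cfsg.Agent.KFacts.RgdChevCoord
open Cfsg.Agent.BpExc Cfsg.Agent.BpExc.TorCent Cfsg.Agent.BpExc.TorChev Cfsg.Agent.BpExc.Tow
open Cfsg.Agent.BpExc.TowChev Cfsg.Agent.BpExc.Fr Cfsg.Agent.BpExc.LangFr
open Cfsg.Agent.BpExc.FamUntw
open Cfsg.Agent.H696.GmnToral Cfsg.Agent.H720.TwFr
open Cfsg.Agent.H607.Car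

section

variable {A : Type*} [AddCommGroup A]

/-- `val` as a linear map -/
noncomputable def vL (c : Fin 6 → A) : (Fin 6 → ℤ) →ₗ[ℤ] A := Fintype.linearCombination ℤ c

theorem vL_apply (c : Fin 6 → A) (a : Fin 6 → ℤ) : vL c a = val c a := rfl

theorem val_sr (c : Fin 6 → A) (i : Fin 6) : val c (sr i) = c i := by
  rw [val, Finset.sum_eq_single i]
  · rw [sr, Pi.single_eq_same, one_smul]
  · intro j _ hj
    rw [sr, Pi.single_eq_of_ne hj, zero_smul]
  · intro h
    exact absurd (Finset.mem_univ i) h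

theorem rp_mul (v w : W6) (a : Fin 6 → ℤ) : rp (v * w) a = rp v (rp w a) := rep_mul_apply cs6 hp6.isCartan v w a

/-- the homomorphism `val c ∘ v` -/
theorem val_comp (c : Fin 6 → A) (v : W6) (a : Fin 6 → ℤ) : val (fun i => val c (rp v (sr i))) a = val c (rp v a) := by
  have h : vL (fun i => val c (rp v (sr i))) = (vL c).comp (rep cs6 hp6.isCartan v) := by
    refine LinearMap.pi_ext' fun i => LinearMap.ext_ring ?_
    show vL (fun i => val c (rp v (sr i))) (sr i) = vL c (rp v (sr i))
    rw [vL_apply, vL_apply, val_sr]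
  exact LinearMap.congr_fun h a

theorem rp_simple (i : Fin 6) (a : Fin 6 → ℤ) :
    rp (cs6.simple i) a = a - pairing (cartanOf chevE6 6) i a • sr i := by
  show rep cs6 hp6.isCartan (cs6.simple i) a = _
  rw [rep_simple, refl_apply, sr, ← Pi.single_smul, smul_eq_mul, mul_one]

theorem val_simple (c : Fin 6 → A) (i : Fin 6) (a : Fin 6 → ℤ) :
    val c (rp (cs6.simple i) a) = val c a - pairing (cartanOf chevE6 6) i a • c i := by
  rw [rp_simple, ← vL_apply, map_sub, map_smul, vL_apply, vL_apply, val_sr]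

/-- `ReflGen` is invariant under the Weyl group -/
theorem reflGen_comp {c : Fin 6 → A} {v : W6} (h : ReflGen fun i => val c (rp v (sr i))) : ReflGen c := by
  intro w hw
  have h1 : FixW (fun i => val c (rp v (sr i))) (v⁻¹ * w * v) := by
    intro a
    rw [val_comp, val_comp, ← rp_mul]
    have : v * (v⁻¹ * w * v) = w * v := by group
    rw [this, rp_mul, hw]
  have h2 : ∀ x ∈ Subgroup.closure {s | ∃ (u : W6) (i : Fin 6), s = u * cs6.simple i * u⁻¹ ∧
      val (fun i => val c (rp v (sr i))) (rp u (sr i)) = 0}, v * x * v⁻¹ ∈ Subgroup.closure {s | ∃ (u : W6) (i : Fin 6),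
      s = u * cs6.simple i * u⁻¹ ∧ val c (rp u (sr i)) = 0} := by
    intro x hx
    induction hx using Subgroup.closure_induction with
    | mem x hx =>
      obtain ⟨u, i, rfl, hu⟩ := hx
      refine Subgroup.subset_closure ⟨v * u, i, by group, ?_⟩
      rw [rp_mul, ← hu, val_comp]
    | one => rw [mul_one, mul_inv_cancel]; exact one_mem _
    | mul x y _ _ hx hy =>
      have : v * (x * y) * v⁻¹ = v * x * v⁻¹ * (v * y * v⁻¹) := by group
      rw [this]
      exact mul_mem hx hy
    | inv x _ hx =>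
      have : v * x⁻¹ * v⁻¹ = (v * x * v⁻¹)⁻¹ := by group
      rw [this]
      exact inv_mem hx
  have h3 := h2 _ (h _ h1)
  have : v * (v⁻¹ * w * v) * v⁻¹ = w := by group
  rwa [this] at h3

end

/-- the dominant case -/
theorem reflGen_dom {m : Fin 6 → ℤ} (hm : ∀ i, 0 ≤ m i) : ReflGen m := by
  have hneg : ∀ a : Fin 6 → ℤ, a ≤ 0 → val m a ≤ 0 := by
    intro a ha
    refine Finset.sum_nonpos fun i _ => ?_
    rw [smul_eq_mul]
    exact mul_nonpos_of_nonpos_of_nonneg (ha i) (hm i)
  have key : ∀ (n : ℕ) (w : W6), cs6.length w = n → FixW m w → w ∈ Subgroup.closure {s | ∃ (v : W6) (i : Fin 6),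
      s = v * cs6.simple i * v⁻¹ ∧ val m (rp v (sr i)) = 0} := by
    intro n
    induction n using Nat.strong_induction_on with
    | _ n ih =>
    intro w hn hw
    by_cases h1 : w = 1
    · rw [h1]
      exact one_mem _
    obtain ⟨i, hi⟩ := cs6.exists_rightDescent_of_ne_one h1
    have hi' : cs6.length (w * cs6.simple i) < cs6.length w := hi
    have h3 := hneg _ (nonpos_of_lt cs6 hp6.isCartan w i hi')
    have h4 : val m (rp w (sr i)) = m i := by rw [hw, val_sr]
    have h5 : m i = 0 := le_antisymm (by rw [← h4]; exact h3) (hm i)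
    have h6 : cs6.simple i ∈ Subgroup.closure {s | ∃ (v : W6) (i : Fin 6),
        s = v * cs6.simple i * v⁻¹ ∧ val m (rp v (sr i)) = 0} := by
      refine Subgroup.subset_closure ⟨1, i, by group, ?_⟩
      show val m (rep cs6 hp6.isCartan 1 (sr i)) = 0
      rw [map_one, Module.End.one_apply, val_sr, h5]
    have h7 := ih _ (hn ▸ hi') (w * cs6.simple i) rfl (by
      intro a
      rw [rp_mul, hw, val_simple, h5, smul_zero, sub_zero])
    have h8 := mul_mem h7 h6
    rwa [mul_assoc, cs6.simple_mul_simple_self, mul_one] at h8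
  exact fun w hw => key _ w rfl hw

/-- the sum of the positive roots -/
def tworho : Fin 6 → ℤ := ![16, 22, 30, 42, 30, 16]

theorem pairing_tworho : ∀ i, pairing (cartanOf chevE6 6) i tworho = 2 := by decide +kernel

/-- **T2a** -/
theorem reflZ : ReflZ := by
  intro m
  haveI : Finite W6 := finite_W hp6 cs6
  haveI : Nonempty W6 := ⟨1⟩
  obtain ⟨v, hv⟩ := Finite.exists_max fun v : W6 => val m (rp v tworho)
  apply reflGen_comp (v := v)
  apply reflGen_dom
  intro i
  have h1 := hv (v * cs6.simple i)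
  change val m (rp (v * cs6.simple i) tworho) ≤ val m (rp v tworho) at h1
  rw [rp_mul, ← val_comp m v, ← val_comp m v, val_simple, pairing_tworho, smul_eq_mul] at h1
  omega

end Cfsg.Agent.H502.E6
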